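import Groth.Agent.FlatnLib.Ring
import Groth.Agent.QCohLib.Affine
import Groth.Prelude.Def_Flatn

/-!
# Relative finite presentation can be tested on any pair of affine opens
-/

set_option autoImplicit false
set_option linter.style.haveILetI false

universe u

open CategoryTheory AlgebraicGeometry TopologicalSpace Opposite

namespace FlatnLib

variable {X S : Scheme.{u}} (f : X ⟶ S) (F : X.Modules) [Coh.IsQCoh F]

/-- `F(U)` is finitely presented relative to `Γ(S, V)`. -/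
def P (U : X.Opens) (V : S.Opens) (h : U ≤ f ⁻¹ᵁ V) : Prop :=
  RFP (f.appLE V U h).hom Γ(F, U)

theorem relFPOn_iff_P (U : X.affineOpens) (V : S.affineOpens) (h : U.1 ≤ f ⁻¹ᵁ V.1) :
    Flatn.RelFPOn f F U V h ↔ P f F U.1 V.1 h := Iff.rfl

variable {U : X.Opens} (hU : IsAffineOpen U) {V : S.Opens}

include hU in
/-- Restriction of sections to a basic open is a localisation. -/
theorem isLocalizedModule_res (g : Γ(X, U)) [Module Γ(X, U) Γ(F, X.basicOpen g)]
    (hsmul : ∀ (r : Γ(X, U)) (y : Γ(F, X.basicOpen g)),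
      r • y = X.presheaf.map (homOfLE (X.basicOpen_le g)).op r • y)
    (ρ : Γ(F, U) →ₗ[Γ(X, U)] Γ(F, X.basicOpen g))
    (hρ : ∀ m, ρ m = F.presheaf.map (homOfLE (X.basicOpen_le g)).op m) :
    IsLocalizedModule (Submonoid.powers g) ρ := by
  have h := QCohLib.localizingAt_of_isQCoh hU F g
  refine IsLocalizedModule.Away.mk_of_addCommGroup ?_ ?_ ?_
  · have hu : IsUnit (X.presheaf.map (homOfLE (X.basicOpen_le g)).op g) :=
      RingedSpace.isUnit_res_basicOpen X.toRingedSpace g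
    rw [Module.End.isUnit_iff]
    refine Function.bijective_iff_has_inverse.mpr ⟨fun y => (↑hu.unit⁻¹ : Γ(X, X.basicOpen g)) • y,
      fun y => ?_, fun y => ?_⟩
    · change (↑hu.unit⁻¹ : Γ(X, X.basicOpen g)) • (g • y) = y
      rw [hsmul, smul_smul, IsUnit.val_inv_mul, one_smul]
    · change g • ((↑hu.unit⁻¹ : Γ(X, X.basicOpen g)) • y) = y
      rw [hsmul, smul_smul, IsUnit.mul_val_inv, one_smul]
  · intro x
    obtain ⟨n, t, ht⟩ := h.exists_extend x
    refine ⟨n, t, ?_⟩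
    rw [hsmul, map_pow, hρ]
    exact ht.symm
  · intro x hx
    rw [hρ] at hx
    obtain ⟨n, hn⟩ := h.eq_zero x hx
    refine ⟨n, ?_⟩
    refine Eq.trans ?_ hn
    refine congrArg (fun a : Γ(X, U) => a ^ n • x) ?_
    exact (congr($(X.presheaf.map_id (op U)) g)).symm

include hU in
/-- Relative presentation restricts to basic opens, and can be tested on them. -/
theorem P_iff_basicOpen (g : Γ(X, U)) (h : U ≤ f ⁻¹ᵁ V) :
    (letI := (f.appLE V U h).hom.toAlgebra
     RFP (algebraMap Γ(S, V) (Localization.Away g))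
      (LocalizedModule (Submonoid.powers g) Γ(F, U))) ↔
      P f F (X.basicOpen g) V ((X.basicOpen_le g).trans h) := by
  let := (f.appLE V U h).hom.toAlgebra
  let ρr : Γ(X, U) →+* Γ(X, X.basicOpen g) := (X.presheaf.map (homOfLE (X.basicOpen_le g)).op).hom
  let := ρr.toAlgebra
  let := Module.compHom Γ(F, X.basicOpen g) ρr
  have := hU.isLocalization_basicOpen g
  let eA : Localization.Away g ≃ₐ[Γ(X, U)] Γ(X, X.basicOpen g) :=
    Localization.algEquiv (Submonoid.powers g) Γ(X, X.basicOpen g)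
  let ρ : Γ(F, U) →ₗ[Γ(X, U)] Γ(F, X.basicOpen g) :=
    { toFun := F.presheaf.map (homOfLE (X.basicOpen_le g)).op
      map_add' := map_add _
      map_smul' := fun r m => Scheme.Modules.map_smul F _ r m }
  have := isLocalizedModule_res F hU g (fun _ _ => rfl) ρ (fun _ => rfl)
  let l := IsLocalizedModule.iso (Submonoid.powers g) ρ
  have hl : ∀ (s : Localization.Away g) (x : LocalizedModule (Submonoid.powers g) Γ(F, U)),
      l (s • x) = eA s • l x := by
    intro s x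
    obtain ⟨a, ⟨_, n, rfl⟩, rfl⟩ := IsLocalization.exists_mk'_eq (Submonoid.powers g) s
    have hu : IsUnit (ρr (g ^ n)) := by
      rw [map_pow]
      exact (RingedSpace.isUnit_res_basicOpen X.toRingedSpace g).pow n
    refine hu.smul_left_cancel.mp ?_
    have h1 : ρr (g ^ n) • l (IsLocalization.mk' (Localization.Away g) a
        (⟨g ^ n, n, rfl⟩ : Submonoid.powers g) • x) = ρr a • l x := by
      change (g ^ n) • l _ = a • l x
      rw [← map_smul, ← map_smul, ← algebraMap_smul (Localization.Away g) (g ^ n),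
        smul_smul, IsLocalization.mk'_spec' (Localization.Away g) a
          (⟨g ^ n, n, rfl⟩ : Submonoid.powers g), algebraMap_smul]
    refine h1.trans ?_
    rw [smul_smul]
    congr 1
    have h2 := IsLocalization.mk'_spec' (Localization.Away g) a
      (⟨g ^ n, n, rfl⟩ : Submonoid.powers g)
    have h3 := congrArg eA h2
    rw [map_mul, eA.commutes, eA.commutes] at h3
    exact h3.symm
  have heA : ∀ r, eA (algebraMap Γ(S, V) (Localization.Away g) r) =
      (f.appLE V (X.basicOpen g) ((X.basicOpen_le g).trans h)).hom r := by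
    intro r
    rw [IsScalarTower.algebraMap_apply Γ(S, V) Γ(X, U) (Localization.Away g), eA.commutes]
    exact congr($(f.appLE_map h (homOfLE (X.basicOpen_le g)).op) r)
  constructor
  · exact rfp_congr _ _ eA.toRingEquiv heA l.toAddEquiv hl
  · refine rfp_congr _ _ eA.symm.toRingEquiv (fun r => ?_) l.symm.toAddEquiv fun s x => ?_
    · exact (eA.symm_apply_eq).mpr (heA r).symm
    · change l.symm (s • x) = eA.symm s • l.symm x
      rw [LinearEquiv.symm_apply_eq, hl, l.apply_symm_apply, eA.apply_symm_apply]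

include hU in
theorem P_basicOpen {h : U ≤ f ⁻¹ᵁ V} (hP : P f F U V h) (g : Γ(X, U)) :
    P f F (X.basicOpen g) V ((X.basicOpen_le g).trans h) := by
  let := (f.appLE V U h).hom.toAlgebra
  refine (P_iff_basicOpen f F hU g h).mp ?_
  exact rfp_tensor (LocalizedModule.mkLinearMap (Submonoid.powers g) Γ(F, U))
    (IsLocalizedModule.isBaseChange (Submonoid.powers g) _ _) hP

include hU in
theorem P_of_cover {h : U ≤ f ⁻¹ᵁ V} [LocallyOfFiniteType f] (hV : IsAffineOpen V)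
    (s : Set Γ(X, U)) (hs : Ideal.span s = ⊤)
    (hP : ∀ g ∈ s, P f F (X.basicOpen g) V ((X.basicOpen_le g).trans h)) : P f F U V h := by
  classical
  let := (f.appLE V U h).hom.toAlgebra
  have : Algebra.FiniteType Γ(S, V) Γ(X, U) :=
    f.finiteType_appLE hV hU h
  obtain ⟨t, hts, ht⟩ := (Ideal.span_eq_top_iff_finite _).mp hs
  let e := t.equivFin
  refine rfp_of_localized (fun i => ((e.symm i : t) : Γ(X, U))) ?_
    (fun i => (P_iff_basicOpen f F hU _ h).mpr (hP _ (hts (e.symm i).2)))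
  rw [show (Set.range fun i => ((e.symm i : t) : Γ(X, U))) = (t : Set Γ(X, U)) from ?_]
  · exact ht
  · ext x
    exact ⟨fun ⟨i, hi⟩ => hi ▸ (e.symm i).2, fun hx => ⟨e ⟨x, hx⟩, by simp⟩⟩

omit [Coh.IsQCoh F] in
/-- Enlarging the affine open of the base. -/
theorem P_enlarge (hV : IsAffineOpen V) {V' : S.Opens} (hV' : IsAffineOpen V') (hle : V' ≤ V)
    {h : U ≤ f ⁻¹ᵁ V'} (hP : P f F U V' h) : P f F U V (h.trans (f.preimage_mono hle)) := by
  let := (S.presheaf.map (homOfLE hle).op).hom.toAlgebra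
  let := (f.appLE V' U h).hom.toAlgebra
  let := (f.appLE V U (h.trans (f.preimage_mono hle))).hom.toAlgebra
  have : IsScalarTower Γ(S, V) Γ(S, V') Γ(X, U) := IsScalarTower.of_algebraMap_eq fun r =>
    (congr($(f.map_appLE h (homOfLE hle).op) r)).symm
  have : Algebra.FinitePresentation Γ(S, V) Γ(S, V') := by
    have h1 := (𝟙 S : S ⟶ S).finitePresentation_appLE hV hV' hle
    rw [Scheme.Hom.appLE, Scheme.Hom.id_app] at h1
    erw [Category.id_comp] at h1
    exact h1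
  exact rfp_trans (A := Γ(S, V')) hP

omit [Coh.IsQCoh F] in
/-- Shrinking the affine open of the base to a basic open. -/
theorem P_shrink_basic (hV : IsAffineOpen V) (a : Γ(S, V)) {h : U ≤ f ⁻¹ᵁ V}
    (h' : U ≤ f ⁻¹ᵁ S.basicOpen a) (hP : P f F U V h) : P f F U (S.basicOpen a) h' := by
  let := (S.presheaf.map (homOfLE (S.basicOpen_le a)).op).hom.toAlgebra
  let := (f.appLE V U h).hom.toAlgebra
  let := (f.appLE (S.basicOpen a) U h').hom.toAlgebra
  have : IsScalarTower Γ(S, V) Γ(S, S.basicOpen a) Γ(X, U) := IsScalarTower.of_algebraMap_eq fun r =>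
    (congr($(f.map_appLE h' (homOfLE (S.basicOpen_le a)).op) r)).symm
  have := hV.isLocalization_basicOpen a
  have hu : Algebra.algebraMapSubmonoid Γ(X, U) (Submonoid.powers a) ≤ IsUnit.submonoid Γ(X, U) := by
    rintro _ ⟨b, hb, rfl⟩
    change IsUnit (algebraMap Γ(S, V) Γ(X, U) b)
    rw [IsScalarTower.algebraMap_apply Γ(S, V) Γ(S, S.basicOpen a) Γ(X, U)]
    exact (IsLocalization.map_units Γ(S, S.basicOpen a) (⟨b, hb⟩ : Submonoid.powers a)).map _
  have : IsLocalization (Algebra.algebraMapSubmonoid Γ(X, U) (Submonoid.powers a)) Γ(X, U) :=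
    IsLocalization.self hu
  have : Algebra.IsPushout Γ(S, V) Γ(X, U) Γ(S, S.basicOpen a) Γ(X, U) :=
    (Algebra.isLocalization_iff_isPushout (Submonoid.powers a) Γ(S, S.basicOpen a)).mp inferInstance
  exact rfp_baseChange (R' := Γ(S, S.basicOpen a)) (LinearMap.id : Γ(F, U) →ₗ[Γ(X, U)] Γ(F, U))
    (IsBaseChange.ofEquiv (LinearEquiv.refl Γ(X, U) Γ(F, U))) hP

/-- The test on any pair of affine opens. -/
theorem P_of_isRelFP [LocallyOfFiniteType f] (hF : Flatn.IsRelFP f F) {U : X.Opens}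
    (hU : IsAffineOpen U) {V : S.Opens} (hV : IsAffineOpen V) (h : U ≤ f ⁻¹ᵁ V) : P f F U V h := by
  obtain ⟨𝒱, hcov, hloc⟩ := hF
  have key : ∀ x ∈ U, ∃ g : Γ(X, U), x ∈ X.basicOpen g ∧
      P f F (X.basicOpen g) V ((X.basicOpen_le g).trans h) := by
    intro x hx
    have hy : f x ∈ ⨆ W ∈ 𝒱, (W : S.Opens) := by rw [hcov]; trivial
    obtain ⟨V₀, hy⟩ := Opens.mem_iSup.mp hy
    obtain ⟨hV₀, hy⟩ := Opens.mem_iSup.mp hy
    obtain ⟨𝒰, hcov', hloc'⟩ := hloc V₀ hV₀
    have hx' : x ∈ ⨆ W ∈ 𝒰, (W : X.Opens) := by rw [hcov']; exact hy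
    obtain ⟨U₀, hx'⟩ := Opens.mem_iSup.mp hx'
    obtain ⟨hU₀, hx'⟩ := Opens.mem_iSup.mp hx'
    have hle₀ : U₀.1 ≤ f ⁻¹ᵁ V₀.1 := by
      rw [← hcov']
      exact le_iSup₂_of_le U₀ hU₀ le_rfl
    obtain ⟨a, b, hab, hfx⟩ := exists_basicOpen_le_affine_inter hV V₀.2 (f x) ⟨h hx, hy⟩
    obtain ⟨g₁, hg₁le, hg₁x⟩ := hU.exists_basicOpen_le
      (V := U ⊓ f ⁻¹ᵁ S.basicOpen a) ⟨x, ⟨hx, hfx⟩⟩ hx
    obtain ⟨g, g₀, hgg, hxg⟩ := exists_basicOpen_le_affine_inter (hU.basicOpen g₁) U₀.2 x ⟨hg₁x, hx'⟩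
    obtain ⟨g', hg'⟩ : ∃ g' : Γ(X, U), X.basicOpen g' = X.basicOpen g := by
      exact hU.basicOpen_basicOpen_is_basicOpen g₁ g
    refine ⟨g', by rw [hg']; exact hxg, ?_⟩
    have h1 : X.basicOpen g' ≤ f ⁻¹ᵁ S.basicOpen a := by
      rw [hg']
      exact (X.basicOpen_le g).trans (hg₁le.trans inf_le_right)
    have h2 : X.basicOpen g' ≤ f ⁻¹ᵁ S.basicOpen b := by rw [← hab]; exact h1
    have p0 : P f F (X.basicOpen g') V₀.1 (h2.trans (f.preimage_mono (S.basicOpen_le b))) := by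
      have := P_basicOpen f F U₀.2 (hloc' U₀ hU₀ hle₀) g₀
      simpa only [hg', hgg] using this
    have p1 := P_shrink_basic f F V₀.2 b h2 p0
    have p2 : P f F (X.basicOpen g') (S.basicOpen a) h1 := by
      simpa only [hab] using p1
    exact P_enlarge f F hV (hV.basicOpen a) (S.basicOpen_le a) p2
  choose g hg hgP using key
  refine P_of_cover f F hU hV (Set.range fun x : U => g x.1 x.2) ?_ ?_
  · rw [← hU.iSup_basicOpen_eq_self_iff]
    refine le_antisymm (iSup_le fun i => X.basicOpen_le i.1) fun x hx => ?_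
    exact Opens.mem_iSup.mpr ⟨⟨_, ⟨x, hx⟩, rfl⟩, hg x hx⟩
  · rintro _ ⟨x, rfl⟩
    exact hgP x.1 x.2

theorem isRelFP_of_forall
    (H : ∀ (U : X.affineOpens) (V : S.affineOpens) (h : U.1 ≤ f ⁻¹ᵁ V.1), P f F U.1 V.1 h) :
    Flatn.IsRelFP f F := by
  refine ⟨Set.univ, ?_, fun V _ => ⟨{U : X.affineOpens | U.1 ≤ f ⁻¹ᵁ V.1}, ?_, fun U _ h => H U V h⟩⟩
  · simpa using iSup_affineOpens_eq_top S
  · refine le_antisymm (iSup₂_le fun U hU => hU) fun x hx => ?_
    obtain ⟨W, hW, hxW, hle⟩ := exists_isAffineOpen_mem_and_subset (X := X) (U := f ⁻¹ᵁ V.1) (x := x) hx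
    exact Opens.mem_iSup.mpr ⟨⟨W, hW⟩, Opens.mem_iSup.mpr ⟨hle, hxW⟩⟩

/-- Pointwise criterion. -/
theorem isRelFP_of_nhds
    (H : ∀ x : X, ∀ V : S.affineOpens, f x ∈ V.1 → ∀ W : X.Opens, x ∈ W →
      ∃ (U : X.affineOpens) (h : U.1 ≤ f ⁻¹ᵁ V.1), x ∈ U.1 ∧ P f F U.1 V.1 h) :
    Flatn.IsRelFP f F := by
  refine ⟨Set.univ, ?_, fun V _ =>
    ⟨{U : X.affineOpens | ∃ h : U.1 ≤ f ⁻¹ᵁ V.1, P f F U.1 V.1 h}, ?_, fun U hU h => hU.2⟩⟩
  · simpa using iSup_affineOpens_eq_top S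
  · refine le_antisymm (iSup₂_le fun U hU => hU.1) fun x hx => ?_
    obtain ⟨U, h, hxU, hP⟩ := H x V hx ⊤ trivial
    exact Opens.mem_iSup.mpr ⟨U, Opens.mem_iSup.mpr ⟨⟨h, hP⟩, hxU⟩⟩

end FlatnLib
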