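import Groth.Agent.S7007
import Groth.Agent.S12083
import Groth.Agent.S6993
import Groth.Agent.S6992
import Groth.Prelude.Def_FlatCA
import Mathlib.RingTheory.RingHom.FinitePresentation
import Mathlib.RingTheory.IsTensorProduct

/-!
# Modules finitely presented relative to a ring map
-/

set_option autoImplicit false
set_option linter.style.haveILetI false

universe u

open TensorProduct

namespace FlatnLib

variable {R S : Type u} [CommRing R] [CommRing S]

/-- `N` is finitely presented relative to `φ`. -/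
def RFP (φ : R →+* S) (N : Type u) [AddCommGroup N] [Module S N] : Prop :=
  letI := φ.toAlgebra
  FlatCA.RelFinitePresentation R S N

theorem rfp_iff_alg [Algebra R S] (N : Type u) [AddCommGroup N] [Module S N] :
    RFP (algebraMap R S) N ↔ FlatCA.RelFinitePresentation R S N := by
  have : (algebraMap R S).toAlgebra = ‹Algebra R S› := Algebra.algebra_ext _ _ fun _ => rfl
  unfold RFP
  rw [this]

theorem rfp_finiteType (φ : R →+* S) {N : Type u} [AddCommGroup N] [Module S N] (h : RFP φ N) :
    φ.FiniteType := by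
  let := φ.toAlgebra
  obtain ⟨n, α, hα, -⟩ := h
  exact (Algebra.FiniteType.iff_quotient_mvPolynomial''.mpr ⟨n, α, hα⟩ : Algebra.FiniteType R S)

theorem rfp_iff_fpAlong [Algebra R S] {N : Type u} [AddCommGroup N] [Module S N] {n : ℕ}
    (α : MvPolynomial (Fin n) R →ₐ[R] S) (hα : Function.Surjective α) :
    RFP (algebraMap R S) N ↔ RelFPLib.FPAlong α.toRingHom N := by
  rw [rfp_iff_alg]
  refine ⟨fun ⟨m, β, hβ, h⟩ => (RelFPLib.fpAlong_iff_fpAlong β hβ α hα N).1 h,
    fun h => ⟨n, α, hα, h⟩⟩

/-- Transport along isomorphisms. -/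
theorem rfp_congr {S' : Type u} [CommRing S'] (φ : R →+* S) (φ' : R →+* S') (e : S ≃+* S')
    (he : ∀ r, e (φ r) = φ' r) {N N' : Type u} [AddCommGroup N] [Module S N] [AddCommGroup N']
    [Module S' N'] (l : N ≃+ N') (hl : ∀ (s : S) (x : N), l (s • x) = e s • l x) (h : RFP φ N) :
    RFP φ' N' := by
  let := φ.toAlgebra
  let := φ'.toAlgebra
  obtain ⟨n, α, hα, hfp⟩ := h
  let eA : S ≃ₐ[R] S' := AlgEquiv.ofRingEquiv (f := e) he
  refine ⟨n, eA.toAlgHom.comp α, eA.surjective.comp hα, ?_⟩
  let := Module.compHom N α.toRingHom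
  let := Module.compHom N' (eA.toAlgHom.comp α).toRingHom
  let l' : N ≃ₗ[MvPolynomial (Fin n) R] N' := { l with map_smul' := fun p x => hl (α p) x }
  exact l'.finitePresentation_iff.mp hfp

/-- Base change along a finitely presented algebra over the source ring. -/
theorem rfp_tensor {S' : Type u} [CommRing S'] [Algebra R S] [Algebra S S'] [Algebra R S']
    [IsScalarTower R S S'] [Algebra.FinitePresentation S S'] {M M' : Type u} [AddCommGroup M]
    [Module S M] [AddCommGroup M'] [Module S M'] [Module S' M'] [IsScalarTower S S' M']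
    (ψ : M →ₗ[S] M') (hψ : IsBaseChange S' ψ) (h : RFP (algebraMap R S) M) :
    RFP (algebraMap R S') M' := by
  have h0 := h
  rw [rfp_iff_alg] at h0
  obtain ⟨n, α, hα, hfp⟩ := h0
  have : Algebra.FiniteType R S := Algebra.FiniteType.iff_quotient_mvPolynomial''.mpr ⟨n, α, hα⟩
  have : Algebra.FiniteType R S' := Algebra.FiniteType.trans (R := R) (S := S) (A := S') ‹_› inferInstance
  obtain ⟨k, γ, hγ⟩ := Algebra.FiniteType.iff_quotient_mvPolynomial''.mp ‹Algebra.FiniteType R S'›
  rw [rfp_iff_fpAlong γ hγ]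
  exact (RelFPLib.fpAlong_congr γ.toRingHom hψ.equiv).1 (RelFPLib.fpAlong_tensor α hα γ hγ M hfp)

/-- Locality on the ring. -/
theorem rfp_of_localized [Algebra R S] [Algebra.FiniteType R S] {M : Type u} [AddCommGroup M]
    [Module S M] {r : ℕ} (f : Fin r → S) (hf : Ideal.span (Set.range f) = ⊤)
    (h : ∀ i, RFP (algebraMap R (Localization.Away (f i))) (LocalizedModule (Submonoid.powers (f i)) M)) :
    RFP (algebraMap R S) M := by
  obtain ⟨n, α, hα⟩ := Algebra.FiniteType.iff_quotient_mvPolynomial''.mp ‹Algebra.FiniteType R S›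
  have : ∀ i, Algebra.FiniteType R (Localization.Away (f i)) := fun i =>
    Algebra.FiniteType.trans (S := S) ‹_› inferInstance
  choose k γ hγ using fun i => Algebra.FiniteType.iff_quotient_mvPolynomial''.mp (this i)
  rw [rfp_iff_fpAlong α hα]
  exact (Groth.Agent.S7007.result α hα M f hf k γ hγ).2 fun i => (rfp_iff_fpAlong (γ i) (hγ i)).1 (h i)

/-- Transitivity. -/
theorem rfp_trans {A : Type u} [CommRing A] [Algebra R A] [Algebra A S] [Algebra R S]
    [IsScalarTower R A S] [Algebra.FinitePresentation R A] {M : Type u} [AddCommGroup M]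
    [Module S M] (h : RFP (algebraMap A S) M) : RFP (algebraMap R S) M := by
  rw [rfp_iff_alg] at h
  obtain ⟨n, α, hα, hfp⟩ := h
  have : Algebra.FiniteType A S := Algebra.FiniteType.iff_quotient_mvPolynomial''.mpr ⟨n, α, hα⟩
  have : Algebra.FiniteType R S := Algebra.FiniteType.trans (S := A) inferInstance ‹_›
  obtain ⟨k, β, hβ⟩ := Algebra.FiniteType.iff_quotient_mvPolynomial''.mp ‹Algebra.FiniteType R S›
  rw [rfp_iff_fpAlong β hβ]
  exact Groth.Agent.S6993.result M α hα β hβ hfp

/-- Base change along a pushout. -/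
theorem rfp_baseChange {R' S' : Type u} [CommRing R'] [CommRing S'] [Algebra R S] [Algebra R R']
    [Algebra S S'] [Algebra R' S'] [Algebra R S'] [IsScalarTower R S S'] [IsScalarTower R R' S']
    [Algebra.IsPushout R S R' S'] {M M' : Type u} [AddCommGroup M]
    [Module S M] [AddCommGroup M'] [Module S M'] [Module S' M'] [IsScalarTower S S' M']
    (ψ : M →ₗ[S] M') (hψ : IsBaseChange S' ψ) (h : RFP (algebraMap R S) M) :
    RFP (algebraMap R' S') M' := by
  have h0 := h
  rw [rfp_iff_alg] at h0
  obtain ⟨n, α, hα, hfp⟩ := h0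
  have : Algebra.FiniteType R S := Algebra.FiniteType.iff_quotient_mvPolynomial''.mpr ⟨n, α, hα⟩
  have : Algebra.IsPushout R R' S S' := Algebra.IsPushout.symm ‹_›
  have : Algebra.FiniteType R' S' :=
    Algebra.FiniteType.equiv inferInstance (Algebra.IsPushout.equiv R R' S S')
  obtain ⟨k, γ, hγ⟩ := Algebra.FiniteType.iff_quotient_mvPolynomial''.mp this
  rw [rfp_iff_fpAlong γ hγ]
  exact (RelFPLib.fpAlong_congr γ.toRingHom hψ.equiv).1
    (Groth.Agent.S12083.result M α hα hfp γ hγ)

/-- A finite map does not change relative presentation. -/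
theorem rfp_finite_iff {B : Type u} [CommRing B] [Algebra R S] [Algebra S B] [Algebra R B]
    [IsScalarTower R S B] [Algebra.FiniteType R S] [Module.Finite S B] {M : Type u} [AddCommGroup M]
    [Module B M] [Module S M] [IsScalarTower S B M] :
    RFP (algebraMap R S) M ↔ RFP (algebraMap R B) M := by
  have : Algebra.FiniteType R B := Algebra.FiniteType.trans (S := S) ‹_› inferInstance
  obtain ⟨n, α, hα⟩ := Algebra.FiniteType.iff_quotient_mvPolynomial''.mp ‹Algebra.FiniteType R S›
  obtain ⟨k, β, hβ⟩ := Algebra.FiniteType.iff_quotient_mvPolynomial''.mp ‹Algebra.FiniteType R B›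
  rw [rfp_iff_fpAlong α hα, rfp_iff_fpAlong β hβ]
  exact Groth.Agent.S6992.result M α hα β hβ

section Exact

variable [Algebra R S] [Algebra.FiniteType R S] {M₁ M₂ M₃ : Type u} [AddCommGroup M₁] [AddCommGroup M₂]
  [AddCommGroup M₃] [Module S M₁] [Module S M₂] [Module S M₃]

theorem rfp_of_exact (f : M₁ →ₗ[S] M₂) (g : M₂ →ₗ[S] M₃) (hf : Function.Injective f)
    (hg : Function.Surjective g) (hfg : Function.Exact f g) (h₁ : RFP (algebraMap R S) M₁)
    (h₃ : RFP (algebraMap R S) M₃) : RFP (algebraMap R S) M₂ := by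
  obtain ⟨n, α, hα⟩ := Algebra.FiniteType.iff_quotient_mvPolynomial''.mp ‹Algebra.FiniteType R S›
  rw [rfp_iff_fpAlong α hα] at h₁ h₃ ⊢
  let := Module.compHom M₁ α.toRingHom
  let := Module.compHom M₂ α.toRingHom
  let := Module.compHom M₃ α.toRingHom
  have : Module.FinitePresentation (MvPolynomial (Fin n) R) M₁ := h₁
  have : Module.FinitePresentation (MvPolynomial (Fin n) R) M₃ := h₃
  let f' : M₁ →ₗ[MvPolynomial (Fin n) R] M₂ :=
    { f.toAddMonoidHom with map_smul' := fun p x => f.map_smul (α p) x }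
  let g' : M₂ →ₗ[MvPolynomial (Fin n) R] M₃ :=
    { g.toAddMonoidHom with map_smul' := fun p x => g.map_smul (α p) x }
  have hker : LinearMap.ker g' = LinearMap.range f' := by
    ext y
    exact hfg y
  have : Module.FinitePresentation (MvPolynomial (Fin n) R) (LinearMap.ker g') := by
    rw [hker]
    exact Module.FinitePresentation.of_equiv (LinearEquiv.ofInjective f' hf)
  exact Module.finitePresentation_of_ker g' hg

theorem rfp_of_quotient (f : M₁ →ₗ[S] M₂) (g : M₂ →ₗ[S] M₃)
    (hg : Function.Surjective g) (hfg : Function.Exact f g) (h₁ : Module.Finite S M₁)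
    (h₂ : RFP (algebraMap R S) M₂) : RFP (algebraMap R S) M₃ := by
  obtain ⟨n, α, hα⟩ := Algebra.FiniteType.iff_quotient_mvPolynomial''.mp ‹Algebra.FiniteType R S›
  rw [rfp_iff_fpAlong α hα] at h₂ ⊢
  let := α.toRingHom.toAlgebra
  let := Module.compHom M₁ α.toRingHom
  let := Module.compHom M₂ α.toRingHom
  let := Module.compHom M₃ α.toRingHom
  have : IsScalarTower (MvPolynomial (Fin n) R) S M₁ := IsScalarTower.of_algebraMap_smul fun _ _ => rfl
  have : Module.Finite (MvPolynomial (Fin n) R) S :=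
    Module.Finite.of_surjective (Algebra.linearMap (MvPolynomial (Fin n) R) S) hα
  have : Module.Finite (MvPolynomial (Fin n) R) M₁ := Module.Finite.trans S M₁
  have : Module.FinitePresentation (MvPolynomial (Fin n) R) M₂ := h₂
  let f' : M₁ →ₗ[MvPolynomial (Fin n) R] M₂ :=
    { f.toAddMonoidHom with map_smul' := fun p x => f.map_smul (α p) x }
  let g' : M₂ →ₗ[MvPolynomial (Fin n) R] M₃ :=
    { g.toAddMonoidHom with map_smul' := fun p x => g.map_smul (α p) x }
  refine Module.finitePresentation_of_surjective g' hg ?_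
  have hker : LinearMap.ker g' = LinearMap.range f' := by
    ext y
    exact hfg y
  rw [hker, LinearMap.range_eq_map]
  exact Submodule.FG.map _ (Module.finite_def.mp inferInstance)

/-- Direct summands. -/
theorem rfp_of_retract (i : M₁ →ₗ[S] M₂) (p : M₂ →ₗ[S] M₁) (hip : ∀ x, p (i x) = x)
    (h₂ : RFP (algebraMap R S) M₂) : RFP (algebraMap R S) M₁ := by
  have hfin : Module.Finite S M₂ := by
    obtain ⟨n, α, hα⟩ := Algebra.FiniteType.iff_quotient_mvPolynomial''.mp ‹Algebra.FiniteType R S›
    rw [rfp_iff_fpAlong α hα] at h₂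
    have := RelFPLib.finitePresentation_of_fpAlong α.toRingHom hα M₂ h₂
    infer_instance
  refine rfp_of_quotient (LinearMap.id - i ∘ₗ p) p (fun x => ⟨i x, hip x⟩) (fun y => ?_) hfin h₂
  constructor
  · intro hy
    exact ⟨y, by simp [hy]⟩
  · rintro ⟨z, rfl⟩
    simp [hip]

end Exact

end FlatnLib
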